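/-
Witt's extension lemma for non-degenerate quadratic forms (any field, any characteristic) and for Hermitian
sesquilinear forms, by induction on the number of vectors, one isometry at a time.
-/

import Mathlib

set_option autoImplicit false

namespace CfsgLib.Forms

section Aux

variable {F V : Type*} [Field F] [AddCommGroup V] [Module F V] {σ : F →+* F}

/-- For a form non-degenerate on the left, a vector outside the span of a finite family pairs to `1` with a
vector orthogonal to the family. -/
theorem exists_orth_pair_one (hσ : Function.Surjective σ) (B : V →ₛₗ[σ] V →ₗ[F] F)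
    (hB : B.SeparatingLeft) {ι : Type*} [Finite ι] (y : ι → V) (z : V)
    (hz : z ∉ Submodule.span F (Set.range y)) :
    ∃ p : V, (∀ i, B (y i) p = 0) ∧ B z p = 1 := by
  by_cases h : ∀ p : V, (∀ i, B (y i) p = 0) → B z p = 0
  · exfalso
    have hmem : B z ∈ Submodule.span F (Set.range fun i => B (y i)) := by
      refine mem_span_of_iInf_ker_le_ker fun p hp => ?_
      simp only [Submodule.mem_iInf, LinearMap.mem_ker] at hp
      exact h p hp
    have : RingHomSurjective σ := ⟨hσ⟩
    have hrange : Set.range (fun i => B (y i)) = B '' Set.range y := by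
      rw [← Set.range_comp]; rfl
    rw [hrange, ← Submodule.map_span] at hmem
    obtain ⟨u, hu, hBu⟩ := hmem
    have hzu : z - u = 0 := hB _ fun p => by simp [map_sub, hBu]
    exact hz (by rw [sub_eq_zero.mp hzu]; exact hu)
  · push Not at h
    obtain ⟨p, hp, hpz⟩ := h
    exact ⟨(B z p)⁻¹ • p, fun i => by simp [hp i], by simp [hpz]⟩

/-- Consequences of linear independence for a family extended by one vector. -/
theorem notMem_span_of_linearIndependent {n : ℕ} (x : Fin (n + 1) → V) (hx : LinearIndependent F x) :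
    x (Fin.last n) ∉ Submodule.span F (Set.range fun i : Fin n => x i.castSucc) := by
  have := hx.notMem_span_image (s := Set.range Fin.castSucc) (x := Fin.last n) (by simp)
  rwa [← Set.range_comp] at this

theorem mem_span_snoc {n : ℕ} (y : Fin n → V) (w z : V)
    (hz : z ∈ Submodule.span F (Set.range (Fin.snoc y w : Fin (n + 1) → V))) :
    ∃ (a : F) (u : V), u ∈ Submodule.span F (Set.range y) ∧ z = u + a • w := by
  rw [Fin.range_snoc, Submodule.mem_span_insert] at hz
  obtain ⟨a, u, hu, rfl⟩ := hz
  exact ⟨a, u, hu, add_comm _ _⟩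

theorem apply_mem_span_eq_zero {ι : Type*} {V' : Type*} [AddCommGroup V'] [Module F V'] (L : V →ₗ[F] V')
    (y : ι → V) (h : ∀ i, L (y i) = 0) {u : V} (hu : u ∈ Submodule.span F (Set.range y)) : L u = 0 := by
  have : Submodule.span F (Set.range y) ≤ LinearMap.ker L :=
    Submodule.span_le.mpr (Set.range_subset_iff.mpr h)
  exact this hu

end Aux

section Quadratic

variable {F V : Type*} [Field F] [AddCommGroup V] [Module F V] [FiniteDimensional F V]
  (Q : QuadraticForm F V)

theorem eq_zero_of_polar_eq_zero (hQ : (QuadraticMap.polarBilin Q).Nondegenerate) (v : V)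
    (h : ∀ w, QuadraticMap.polar Q v w = 0) : v = 0 := hQ.1 v h

/-- A linear map preserving a non-degenerate quadratic form is a linear automorphism. -/
noncomputable def quadIsoOfPreserves (hQ : (QuadraticMap.polarBilin Q).Nondegenerate) (f : V →ₗ[F] V)
    (hf : ∀ v, Q (f v) = Q v) : V ≃ₗ[F] V :=
  LinearEquiv.ofInjectiveEndo f (by
    rw [injective_iff_map_eq_zero]
    intro v hv
    refine eq_zero_of_polar_eq_zero Q hQ v fun w => ?_
    have h1 : QuadraticMap.polar Q v w = QuadraticMap.polar Q (f v) (f w) := by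
      simp only [QuadraticMap.polar, ← map_add, hf]
    rw [h1, hv, QuadraticMap.polar_zero_left])

@[simp] theorem quadIsoOfPreserves_apply (hQ : (QuadraticMap.polarBilin Q).Nondegenerate) (f : V →ₗ[F] V)
    (hf : ∀ v, Q (f v) = Q v) (v : V) : quadIsoOfPreserves Q hQ f hf v = f v := rfl

omit [FiniteDimensional F V] in
theorem quad_add (x y : V) : Q (x + y) = Q x + Q y + QuadraticMap.polar Q x y := by
  simp only [QuadraticMap.polar]; ring

/-- The one-step lemma: moving `z` to `t` while fixing a family `y`. -/
theorem quad_witt_step (hQ : (QuadraticMap.polarBilin Q).Nondegenerate) {n : ℕ} (y : Fin n → V) (z t : V)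
    (hz : z ∉ Submodule.span F (Set.range y)) (ht : t ∉ Submodule.span F (Set.range y)) (hq : Q z = Q t)
    (hy : ∀ i, QuadraticMap.polar Q (y i) z = QuadraticMap.polar Q (y i) t) :
    ∃ g : V ≃ₗ[F] V, (∀ v, Q (g v) = Q v) ∧ g z = t ∧ ∀ i, g (y i) = y i := by
  obtain ⟨w, rfl⟩ : ∃ w, t = z + w := ⟨t - z, by abel⟩
  let B := QuadraticMap.polarBilin Q
  have hB : ∀ a b, B a b = QuadraticMap.polar Q a b := fun a b => rfl
  have hcomm : ∀ a b, B a b = B b a := fun a b => QuadraticMap.polar_comm Q a b
  have hyw : ∀ i, B (y i) w = 0 := fun i => by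
    have := hy i
    rw [← hB, ← hB, map_add] at this
    simpa using this.symm
  have hzw : B z w = -Q w := by
    have := hq
    rw [quad_add, ← hB] at this
    linear_combination -this
  have hQadd : ∀ a b, Q (a + b) = Q a + Q b + B a b := fun a b => quad_add Q a b
  by_cases hw : Q w = 0
  · rw [hw, neg_zero] at hzw
    have hww : B w w = 0 := by rw [hB, QuadraticMap.polar_self, hw]; simp
    by_cases hspan : z ∈ Submodule.span F (Set.range (Fin.snoc y w : Fin (n + 1) → V))
    · obtain ⟨a, u, hu, hzu⟩ := mem_span_snoc y w z hspan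
      have ha : a ≠ 0 := by
        rintro rfl; exact hz (by simpa [hzu] using hu)
      have ha1 : a + 1 ≠ 0 := by
        intro h; apply ht
        rw [hzu, add_assoc]
        nth_rewrite 2 [← one_smul F w]
        rw [← add_smul, h]; simpa using hu
      have hwy : w ∉ Submodule.span F (Set.range y) := fun hwy => hz <| by
        rw [hzu]; exact add_mem hu (Submodule.smul_mem _ a hwy)
      obtain ⟨p, hp, hp1⟩ := exists_orth_pair_one (σ := RingHom.id F) Function.surjective_id B hQ.1 y w hwy
      obtain ⟨p', hp'Q, hp', hp'1⟩ : ∃ p', Q p' = 0 ∧ (∀ i, B (y i) p' = 0) ∧ B w p' = 1 := by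
        refine ⟨p + (-Q p) • w, ?_, fun i => by simp [hp i, hyw i], by simp [hp1, hww]⟩
        rw [hQadd, QuadraticMap.map_smul, hw, map_smul, hcomm p w, hp1]
        simp
      let l : F := (a + 1) / a
      let f : V →ₗ[F] V :=
        LinearMap.id + (l - 1) • (B p').smulRight w + (l⁻¹ - 1) • (B w).smulRight p'
      have hl : l * l⁻¹ = 1 := mul_inv_cancel₀ (div_ne_zero ha1 ha)
      have hf : ∀ v, Q (f v) = Q v := fun v => by
        simp only [f, LinearMap.add_apply, LinearMap.id_apply, LinearMap.smul_apply,
          LinearMap.smulRight_apply, smul_smul]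
        simp only [hQadd, QuadraticMap.map_smul, hw, hp'Q, map_add, map_smul, LinearMap.add_apply,
          LinearMap.smul_apply, hcomm v w, hcomm v p', hp'1, smul_eq_mul]
        linear_combination (B p' v * B w v) * hl
      refine ⟨quadIsoOfPreserves Q hQ f hf, fun v => by simp [hf], ?_, fun i => ?_⟩
      · have hpu : B p' u = 0 := apply_mem_span_eq_zero (B p') y (fun i => by rw [hcomm, hp']) hu
        have h1 : B p' z = a := by rw [hzu]; simp [hpu, hcomm p' w, hp'1]
        have h2 : (l - 1) * a = 1 := by simp only [l]; field_simp; ring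
        simp [f, h1, hcomm w z, hzw, smul_smul, h2]
      · simp [f, hcomm p' (y i), hp' i, hcomm w (y i), hyw i]
    · obtain ⟨p, hp, hp1⟩ :=
        exists_orth_pair_one (σ := RingHom.id F) Function.surjective_id B hQ.1 (Fin.snoc y w : Fin (n + 1) → V)
          z hspan
      have hwp : B w p = 0 := by simpa using hp (Fin.last n)
      have hpy : ∀ i, B (y i) p = 0 := fun i => by simpa using hp i.castSucc
      let f : V →ₗ[F] V :=
        LinearMap.id + (B p).smulRight w + (-1 : F) • (B w).smulRight p + (-Q p) • (B w).smulRight w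
      have hf : ∀ v, Q (f v) = Q v := fun v => by
        simp only [f, LinearMap.add_apply, LinearMap.id_apply, LinearMap.smul_apply,
          LinearMap.smulRight_apply, smul_smul]
        simp only [hQadd, QuadraticMap.map_smul, hw, map_add, map_smul, LinearMap.add_apply,
          LinearMap.smul_apply, hcomm v w, hcomm v p, hwp, hww, hcomm p w, smul_eq_mul]
        ring
      refine ⟨quadIsoOfPreserves Q hQ f hf, fun v => by simp [hf], ?_, fun i => ?_⟩
      · simp [f, hcomm p z, hp1, hcomm w z, hzw]
      · simp [f, hcomm p (y i), hpy i, hcomm w (y i), hyw i]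
  · let f : V →ₗ[F] V := LinearMap.id + (-(Q w)⁻¹) • (B w).smulRight w
    have hc : (Q w)⁻¹ * Q w = 1 := inv_mul_cancel₀ hw
    have hf : ∀ v, Q (f v) = Q v := fun v => by
      simp only [f, LinearMap.add_apply, LinearMap.id_apply, LinearMap.smul_apply,
        LinearMap.smulRight_apply, smul_smul]
      simp only [hQadd, QuadraticMap.map_smul, map_smul, hcomm v w, smul_eq_mul]
      linear_combination ((Q w)⁻¹ * B w v * B w v) * hc
    refine ⟨quadIsoOfPreserves Q hQ f hf, fun v => by simp [hf], ?_, fun i => ?_⟩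
    · simp [f, hcomm w z, hzw, hc, smul_smul]
    · simp [f, hcomm w (y i), hyw i]

/-- Witt's lemma for quadratic forms, on families of vectors. -/
theorem quad_witt_family (hQ : (QuadraticMap.polarBilin Q).Nondegenerate) :
    ∀ {n : ℕ} (x y : Fin n → V), LinearIndependent F x → LinearIndependent F y →
      (∀ i, Q (x i) = Q (y i)) →
      (∀ i j, QuadraticMap.polar Q (x i) (x j) = QuadraticMap.polar Q (y i) (y j)) →
      ∃ g : V ≃ₗ[F] V, (∀ v, Q (g v) = Q v) ∧ ∀ i, g (x i) = y i := by
  intro n
  induction n with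
  | zero => exact fun x y _ _ _ _ => ⟨LinearEquiv.refl F V, fun _ => rfl, fun i => i.elim0⟩
  | succ n ih =>
    intro x y hx hy hq hp
    obtain ⟨g, hg, hgx⟩ := ih (fun i => x i.castSucc) (fun i => y i.castSucc)
      (hx.comp _ (Fin.castSucc_injective n)) (hy.comp _ (Fin.castSucc_injective n))
      (fun i => hq _) (fun i j => hp _ _)
    have hgp : ∀ a b, QuadraticMap.polar Q (g a) (g b) = QuadraticMap.polar Q a b := fun a b => by
      simp only [QuadraticMap.polar, ← map_add, hg]
    have hgz : g (x (Fin.last n)) ∉ Submodule.span F (Set.range fun i : Fin n => y i.castSucc) := by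
      have := notMem_span_of_linearIndependent (fun i => g (x i))
        (hx.map' g.toLinearMap (LinearEquiv.ker g))
      simpa only [hgx] using this
    obtain ⟨h, hh, hhz, hhy⟩ := quad_witt_step Q hQ (fun i => y i.castSucc) (g (x (Fin.last n)))
      (y (Fin.last n)) hgz (notMem_span_of_linearIndependent y hy) (by rw [hg, hq])
      (fun i => by
        have h1 : g (x i.castSucc) = y i.castSucc := hgx i
        rw [← h1, hgp, hp, ← h1, hgx i])
    refine ⟨g.trans h, fun v => by simp [hh, hg], Fin.lastCases (by simpa using hhz) fun i => ?_⟩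
    simp [hgx i, hhy i]

/-- Witt's lemma for quadratic forms. -/
theorem quad_witt_extension (hQ : (QuadraticMap.polarBilin Q).Nondegenerate) (X : Submodule F V)
    (φ : X →ₗ[F] V) (hinj : Function.Injective φ) (hφ : ∀ x : X, Q (φ x) = Q (x : V)) :
    ∃ g : V ≃ₗ[F] V, (∀ v, Q (g v) = Q v) ∧ ∀ x : X, g (x : V) = φ x := by
  let b := Module.finBasis F X
  have hp : ∀ u v : X, QuadraticMap.polar Q (u : V) (v : V) = QuadraticMap.polar Q (φ u) (φ v) := by
    intro u v
    simp only [QuadraticMap.polar, ← map_add, hφ, Submodule.coe_add]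
  obtain ⟨g, hg, hgb⟩ := quad_witt_family Q hQ (fun i => (b i : V)) (fun i => φ (b i))
    (b.linearIndependent.map' X.subtype (Submodule.ker_subtype X))
    (b.linearIndependent.map' φ (LinearMap.ker_eq_bot.mpr hinj))
    (fun i => (hφ _).symm) (fun i j => hp _ _)
  refine ⟨g, hg, fun x => ?_⟩
  have : g.toLinearMap.comp X.subtype = φ := b.ext fun i => hgb i
  exact congrArg (fun L : X →ₗ[F] V => L x) this

/-- Maximal totally singular subspaces have equal dimension. -/
theorem quad_witt_index (hQ : (QuadraticMap.polarBilin Q).Nondegenerate) (W₁ W₂ : Submodule F V)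
    (h₁ : ∀ w ∈ W₁, Q w = 0) (h₂ : ∀ w ∈ W₂, Q w = 0)
    (hmax₁ : ∀ W : Submodule F V, W₁ ≤ W → (∀ w ∈ W, Q w = 0) → W = W₁) :
    Module.finrank F W₂ ≤ Module.finrank F W₁ := by
  by_contra hlt
  push Not at hlt
  obtain ⟨f, hf⟩ : ∃ f : W₁ →ₗ[F] W₂, Function.Injective f :=
    ⟨(Module.finBasis F W₁).constr F fun i => Module.finBasis F W₂ (Fin.castLE hlt.le i),
      Module.Basis.injective_constr_of_linearIndependent _
        ((Module.finBasis F W₂).linearIndependent.comp _ (Fin.castLE_injective _))⟩
  obtain ⟨g, hg, hgf⟩ := quad_witt_extension Q hQ W₁ (W₂.subtype.comp f)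
    (Subtype.val_injective.comp hf) (fun x => by rw [h₁ _ x.2]; exact h₂ _ (f x).2)
  have := hmax₁ (W₂.comap g.toLinearMap)
    (fun x hx => by
      show g x ∈ W₂
      rw [show g x = (f ⟨x, hx⟩ : V) from hgf ⟨x, hx⟩]; exact (f _).2)
    (fun w hw => by rw [← hg]; exact h₂ _ hw)
  rw [← this, Submodule.comap_equiv_eq_map_symm, LinearEquiv.finrank_map_eq] at hlt
  exact lt_irrefl _ hlt

end Quadratic

section Hermitian

variable {F V : Type*} [Field F] [AddCommGroup V] [Module F V] [FiniteDimensional F V]
  {σ : F →+* F} (B : V →ₛₗ[σ] V →ₗ[F] F)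

/-- A linear map preserving a form non-degenerate on the left is a linear automorphism. -/
noncomputable def sesqIsoOfPreserves (hB : B.SeparatingLeft) (f : V →ₗ[F] V)
    (hf : ∀ u v, B (f u) (f v) = B u v) : V ≃ₗ[F] V :=
  LinearEquiv.ofInjectiveEndo f (by
    rw [injective_iff_map_eq_zero]
    intro v hv
    exact hB v fun w => by rw [← hf, hv]; simp)

@[simp] theorem sesqIsoOfPreserves_apply (hB : B.SeparatingLeft) (f : V →ₗ[F] V)
    (hf : ∀ u v, B (f u) (f v) = B u v) (v : V) : sesqIsoOfPreserves B hB f hf v = f v := rfl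

/-- An element with non-zero trace. -/
theorem exists_trace_ne_zero (hσ : σ ≠ RingHom.id F) : ∃ e : F, e + σ e ≠ 0 := by
  by_cases h2 : (2 : F) = 0
  · obtain ⟨a, ha⟩ : ∃ a, σ a ≠ a := by
      by_contra h; push Not at h; exact hσ (RingHom.ext h)
    exact ⟨a, fun h => ha (by linear_combination h - a * h2)⟩
  · exact ⟨1, by rw [map_one, one_add_one_eq_two]; exact h2⟩

/-- The trace onto the fixed field is surjective. -/
theorem exists_trace_eq (hσ : σ ≠ RingHom.id F) (hσ2 : ∀ a, σ (σ a) = a) (b : F) (hb : σ b = b) :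
    ∃ d : F, d + σ d = b := by
  obtain ⟨e, he⟩ := exists_trace_ne_zero hσ
  refine ⟨e / (e + σ e) * b, ?_⟩
  rw [map_mul, map_div₀, map_add, hσ2, hb, add_comm (σ e) e]
  field_simp

/-- The one-step lemma: moving `z` to `t` while fixing a family `y`. -/
theorem herm_witt_step (hσ : σ ≠ RingHom.id F) (hσ2 : ∀ a, σ (σ a) = a)
    (hS : ∀ u v, σ (B u v) = B v u) (hB : B.SeparatingLeft) {n : ℕ} (y : Fin n → V) (z t : V)
    (hz : z ∉ Submodule.span F (Set.range y)) (ht : t ∉ Submodule.span F (Set.range y))
    (hq : B z z = B t t) (hy : ∀ i, B (y i) z = B (y i) t) :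
    ∃ g : V ≃ₗ[F] V, (∀ u v, B (g u) (g v) = B u v) ∧ g z = t ∧ ∀ i, g (y i) = y i := by
  have hsurj : Function.Surjective σ := fun a => ⟨σ a, hσ2 a⟩
  obtain ⟨w, rfl⟩ : ∃ w, t = z + w := ⟨t - z, by abel⟩
  have hyw : ∀ i, B (y i) w = 0 := fun i => by simpa using (hy i).symm
  have hwy : ∀ i, B w (y i) = 0 := fun i => by rw [← hS, hyw, map_zero]
  have hsum : B z w + B w z + B w w = 0 := by
    have := hq
    simp only [map_add, LinearMap.add_apply] at this
    linear_combination -this
  by_cases hwz : B w z = 0
  · have hzw : B z w = 0 := by rw [← hS, hwz, map_zero]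
    have hww : B w w = 0 := by rw [hzw, hwz] at hsum; simpa using hsum
    have hsym : ∀ a, σ (B a a) = B a a := fun a => hS a a
    by_cases hspan : z ∈ Submodule.span F (Set.range (Fin.snoc y w : Fin (n + 1) → V))
    · obtain ⟨a, u, hu, hzu⟩ := mem_span_snoc y w z hspan
      have ha : a ≠ 0 := by
        rintro rfl; exact hz (by simpa [hzu] using hu)
      have ha1 : a + 1 ≠ 0 := by
        intro h; apply ht
        rw [hzu, add_assoc]
        nth_rewrite 2 [← one_smul F w]
        rw [← add_smul, h]; simpa using hu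
      have hwy' : w ∉ Submodule.span F (Set.range y) := fun hwy' => hz <| by
        rw [hzu]; exact add_mem hu (Submodule.smul_mem _ a hwy')
      obtain ⟨p, hp, hp1⟩ := exists_orth_pair_one hsurj B hB y w hwy'
      have hp1' : B p w = 1 := by rw [← hS, hp1, map_one]
      obtain ⟨d, hd⟩ := exists_trace_eq hσ hσ2 (-B p p) (by rw [map_neg, hsym])
      obtain ⟨p', hp'Q, hp', hp'1⟩ : ∃ p', B p' p' = 0 ∧ (∀ i, B (y i) p' = 0) ∧ B w p' = 1 := by
        refine ⟨p + d • w, ?_, fun i => by simp [hp i, hyw i], by simp [hp1, hww]⟩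
        simp only [map_add, map_smulₛₗ, LinearMap.add_apply, LinearMap.smul_apply, hp1, hp1', hww,
          smul_eq_mul, RingHom.id_apply]
        linear_combination hd
      have hp'1' : B p' w = 1 := by rw [← hS, hp'1, map_one]
      let l : F := (a + 1) / a
      let m : F := (σ l)⁻¹
      let f : V →ₗ[F] V :=
        LinearMap.id + (l - 1) • (B p').smulRight w + (m - 1) • (B w).smulRight p'
      have hl0 : σ l ≠ 0 := (map_ne_zero σ).mpr (div_ne_zero ha1 ha)
      have h1 : σ l * m = 1 := mul_inv_cancel₀ hl0
      have h2 : l * σ m = 1 := by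
        have := congrArg σ h1
        rwa [map_mul, hσ2, map_one] at this
      have hf : ∀ v v', B (f v) (f v') = B v v' := fun v v' => by
        simp only [f, LinearMap.add_apply, LinearMap.id_apply, LinearMap.smul_apply,
          LinearMap.smulRight_apply, smul_smul]
        simp only [map_add, map_smulₛₗ, LinearMap.add_apply, LinearMap.smul_apply, map_mul, map_sub,
          map_one, hS, hp'Q, hww, hp'1, hp'1', smul_eq_mul, RingHom.id_apply]
        linear_combination (B v p' * B w v') * h1 + (B v w * B p' v') * h2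
      refine ⟨sesqIsoOfPreserves B hB f hf, fun v v' => by simp [hf], ?_, fun i => ?_⟩
      · have hpu : B p' u = 0 :=
          apply_mem_span_eq_zero (B p') y (fun i => by rw [← hS, hp', map_zero]) hu
        have h4 : B p' z = a := by rw [hzu]; simp [hpu, hp'1']
        have h3 : (l - 1) * a = 1 := by simp only [l]; field_simp; ring
        simp [f, h4, hwz, smul_smul, h3]
      · have : B p' (y i) = 0 := by rw [← hS, hp', map_zero]
        simp [f, this, hwy i]
    · obtain ⟨p, hp, hp1⟩ := exists_orth_pair_one hsurj B hB (Fin.snoc y w : Fin (n + 1) → V) z hspan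
      have hp1' : B p z = 1 := by rw [← hS, hp1, map_one]
      have hwp : B w p = 0 := by simpa using hp (Fin.last n)
      have hpw : B p w = 0 := by rw [← hS, hwp, map_zero]
      have hpy : ∀ i, B p (y i) = 0 := fun i => by
        rw [← hS, show B (y i) p = 0 by simpa using hp i.castSucc, map_zero]
      obtain ⟨d, hd⟩ := exists_trace_eq hσ hσ2 (-B p p) (by rw [map_neg, hsym])
      let f : V →ₗ[F] V :=
        LinearMap.id + (B p).smulRight w - (B w).smulRight p + d • (B w).smulRight w
      have hf : ∀ v v', B (f v) (f v') = B v v' := fun v v' => by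
        simp only [f, LinearMap.sub_apply, LinearMap.add_apply, LinearMap.id_apply, LinearMap.smul_apply,
          LinearMap.smulRight_apply, smul_smul]
        simp only [map_add, map_sub, map_smulₛₗ, LinearMap.add_apply, LinearMap.sub_apply,
          LinearMap.smul_apply, map_mul, hS, hww, hwp, hpw, smul_eq_mul, RingHom.id_apply]
        linear_combination (B v w * B w v') * hd
      refine ⟨sesqIsoOfPreserves B hB f hf, fun v v' => by simp [hf], ?_, fun i => ?_⟩
      · simp [f, hp1', hwz]
      · simp [f, hpy i, hwy i]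
  · let c : F := (B w z)⁻¹
    let f : V →ₗ[F] V := LinearMap.id + c • (B w).smulRight w
    have hc : c * B w z = 1 := inv_mul_cancel₀ hwz
    have hc' : σ c * B z w = 1 := by
      have := congrArg σ hc
      rwa [map_mul, hS, map_one] at this
    have hf : ∀ v v', B (f v) (f v') = B v v' := fun v v' => by
      simp only [f, LinearMap.add_apply, LinearMap.id_apply, LinearMap.smul_apply,
        LinearMap.smulRight_apply, smul_smul]
      simp only [map_add, map_smulₛₗ, LinearMap.add_apply, LinearMap.smul_apply, map_mul, hS,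
        smul_eq_mul, RingHom.id_apply]
      linear_combination (B v w * B w v' * c * σ c) * hsum + (-B v w * B w v' * σ c) * hc
        + (-B v w * B w v' * c) * hc'
    refine ⟨sesqIsoOfPreserves B hB f hf, fun v v' => by simp [hf], ?_, fun i => ?_⟩
    · simp [f, smul_smul, hc]
    · simp [f, hwy i]

/-- Witt's lemma for Hermitian forms, on families of vectors. -/
theorem herm_witt_family (hσ : σ ≠ RingHom.id F) (hσ2 : ∀ a, σ (σ a) = a)
    (hS : ∀ u v, σ (B u v) = B v u) (hB : B.SeparatingLeft) :
    ∀ {n : ℕ} (x y : Fin n → V), LinearIndependent F x → LinearIndependent F y →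
      (∀ i j, B (x i) (x j) = B (y i) (y j)) →
      ∃ g : V ≃ₗ[F] V, (∀ u v, B (g u) (g v) = B u v) ∧ ∀ i, g (x i) = y i := by
  intro n
  induction n with
  | zero => exact fun x y _ _ _ => ⟨LinearEquiv.refl F V, fun _ _ => rfl, fun i => i.elim0⟩
  | succ n ih =>
    intro x y hx hy hp
    obtain ⟨g, hg, hgx⟩ := ih (fun i => x i.castSucc) (fun i => y i.castSucc)
      (hx.comp _ (Fin.castSucc_injective n)) (hy.comp _ (Fin.castSucc_injective n)) (fun i j => hp _ _)
    have hgz : g (x (Fin.last n)) ∉ Submodule.span F (Set.range fun i : Fin n => y i.castSucc) := by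
      have := notMem_span_of_linearIndependent (fun i => g (x i))
        (hx.map' g.toLinearMap (LinearEquiv.ker g))
      simpa only [hgx] using this
    obtain ⟨h, hh, hhz, hhy⟩ := herm_witt_step B hσ hσ2 hS hB (fun i => y i.castSucc)
      (g (x (Fin.last n))) (y (Fin.last n)) hgz (notMem_span_of_linearIndependent y hy)
      (by rw [hg, hp])
      (fun i => by
        have h1 : g (x i.castSucc) = y i.castSucc := hgx i
        rw [← h1, hg, hp, ← h1, hgx i])
    refine ⟨g.trans h, fun u v => by simp [hh, hg], Fin.lastCases (by simpa using hhz) fun i => ?_⟩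
    simp [hgx i, hhy i]

/-- Witt's lemma for Hermitian forms. -/
theorem herm_witt_extension (hσ : σ ≠ RingHom.id F) (hσ2 : ∀ a, σ (σ a) = a)
    (hS : ∀ u v, σ (B u v) = B v u) (hB : B.SeparatingLeft) (X : Submodule F V)
    (φ : X →ₗ[F] V) (hinj : Function.Injective φ)
    (hφ : ∀ x x' : X, B (φ x) (φ x') = B (x : V) (x' : V)) :
    ∃ g : V ≃ₗ[F] V, (∀ u v, B (g u) (g v) = B u v) ∧ ∀ x : X, g (x : V) = φ x := by
  let b := Module.finBasis F X
  obtain ⟨g, hg, hgb⟩ := herm_witt_family B hσ hσ2 hS hB (fun i => (b i : V)) (fun i => φ (b i))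
    (b.linearIndependent.map' X.subtype (Submodule.ker_subtype X))
    (b.linearIndependent.map' φ (LinearMap.ker_eq_bot.mpr hinj))
    (fun i j => (hφ _ _).symm)
  refine ⟨g, hg, fun x => ?_⟩
  have : g.toLinearMap.comp X.subtype = φ := b.ext fun i => hgb i
  exact congrArg (fun L : X →ₗ[F] V => L x) this

end Hermitian

end CfsgLib.Forms
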